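import Mathlib

set_option autoImplicit false
universe u
open scoped BigOperators

namespace Groth.Agent.Lib.Helper5.KapA

variable {R : Type u} [CommRing R] {M : Type u} [AddCommGroup M] [Module R M]
  {S : Type u} [LinearOrder S] [WellFoundedLT S] (Mf : S → Submodule R M)

/-- index set of successor steps -/
abbrev Idx (S : Type u) [LinearOrder S] := {p : S × S // p.1 ⋖ p.2}

theorem le_iSup_C (hlim : ∀ s : S, Order.IsSuccPrelimit s → Mf s = ⨆ t : {t : S // t < s}, Mf t.1)
    (C : Idx S → Submodule R M) (hC2 : ∀ p : Idx S, Mf p.1.1 ⊔ C p = Mf p.1.2) (s : S) :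
    Mf s ≤ ⨆ p, C p := by
  induction s using WellFoundedLT.induction with
  | ind s ih =>
    by_cases hs : Order.IsSuccPrelimit s
    · rw [hlim s hs]
      exact iSup_le fun t => ih t.1 t.2
    · rw [Order.not_isSuccPrelimit_iff] at hs
      obtain ⟨b, hb⟩ := hs
      rw [← hC2 ⟨(b, s), hb⟩]
      exact sup_le (ih b hb.lt) (le_iSup C ⟨(b, s), hb⟩)

theorem C_le (C : Idx S → Submodule R M) (hC2 : ∀ p : Idx S, Mf p.1.1 ⊔ C p = Mf p.1.2) (p : Idx S) :
    C p ≤ Mf p.1.2 := by
  rw [← hC2 p]; exact le_sup_right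

theorem iSupIndep_C (hmono : Monotone Mf)
    (C : Idx S → Submodule R M) (hC1 : ∀ p : Idx S, Mf p.1.1 ⊓ C p = ⊥)
    (hC2 : ∀ p : Idx S, Mf p.1.1 ⊔ C p = Mf p.1.2) : iSupIndep C := by
  classical
  rw [iSupIndep_iff_finsetSum_eq_zero_imp_eq_zero]
  intro s
  induction s using Finset.strongInduction with
  | H s ih =>
    intro v hv hsum i hi
    have hne : s.Nonempty := ⟨i, hi⟩
    obtain ⟨m, hm, hmax⟩ := Finset.exists_max_image s (fun p : Idx S => p.1.2) hne
    have hvm : v m = 0 := by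
      have h1 : v m = - ∑ j ∈ s.erase m, v j := by
        rw [← s.add_sum_erase _ hm] at hsum
        exact eq_neg_of_add_eq_zero_left hsum
      have h2 : v m ∈ Mf m.1.1 := by
        rw [h1]
        apply Submodule.neg_mem
        apply Submodule.sum_mem
        intro j hj
        have hjs := Finset.mem_of_mem_erase hj
        have hjne := Finset.ne_of_mem_erase hj
        have hle : j.1.2 ≤ m.1.2 := hmax j hjs
        have hlt : j.1.2 < m.1.2 := by
          rcases hle.lt_or_eq with h | h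
          · exact h
          · exfalso
            apply hjne
            apply Subtype.ext
            have h3 : j.1.1 = m.1.1 := by
              have hj2 := j.2
              rw [h] at hj2
              exact hj2.unique_left m.2
            exact Prod.ext h3 h
        have hle2 : j.1.2 ≤ m.1.1 := m.2.le_of_lt hlt
        exact hmono hle2 (C_le Mf C hC2 j (hv j hjs))
      have h3 : v m ∈ Mf m.1.1 ⊓ C m := ⟨h2, hv m hm⟩
      rw [hC1 m] at h3
      exact (Submodule.mem_bot R).mp h3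
    by_cases him : i = m
    · rw [him]; exact hvm
    · have hsum' : ∑ j ∈ s.erase m, v j = 0 := by
        rw [← s.add_sum_erase _ hm, hvm, zero_add] at hsum
        exact hsum
      exact ih (s.erase m) (Finset.erase_ssubset hm) v
        (fun j hj => hv j (Finset.mem_of_mem_erase hj)) hsum' i (Finset.mem_erase.mpr ⟨him, hi⟩)

theorem isInternal_C [DecidableEq (Idx S)] (hmono : Monotone Mf)
    (hlim : ∀ s : S, Order.IsSuccPrelimit s → Mf s = ⨆ t : {t : S // t < s}, Mf t.1)
    (htop : (⨆ s, Mf s) = ⊤)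
    (C : Idx S → Submodule R M) (hC1 : ∀ p : Idx S, Mf p.1.1 ⊓ C p = ⊥)
    (hC2 : ∀ p : Idx S, Mf p.1.1 ⊔ C p = Mf p.1.2) : DirectSum.IsInternal C := by
  rw [DirectSum.isInternal_submodule_iff_iSupIndep_and_iSup_eq_top]
  refine ⟨iSupIndep_C Mf hmono C hC1 hC2, ?_⟩
  rw [eq_top_iff, ← htop]
  exact iSup_le fun s => le_iSup_C Mf hlim C hC2 s

/-- the complement is isomorphic to the quotient -/
noncomputable def compEquiv (N N' C : Submodule R M) (h1 : N ⊓ C = ⊥) (h2 : N ⊔ C = N') :
    C ≃ₗ[R] (↥N' ⧸ Submodule.comap N'.subtype N) := by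
  have hCle : C ≤ N' := by rw [← h2]; exact le_sup_right
  refine LinearEquiv.ofBijective
    ((Submodule.mkQ _) ∘ₗ (Submodule.inclusion hCle)) ⟨?_, ?_⟩
  · rw [← LinearMap.ker_eq_bot, LinearMap.ker_eq_bot']
    intro c hc
    simp only [LinearMap.comp_apply, Submodule.mkQ_apply, Submodule.Quotient.mk_eq_zero,
      Submodule.mem_comap, Submodule.subtype_apply, Submodule.coe_inclusion] at hc
    have : (c : M) ∈ N ⊓ C := ⟨hc, c.2⟩
    rw [h1] at this
    exact Subtype.ext ((Submodule.mem_bot R).mp this)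
  · intro x
    obtain ⟨x, rfl⟩ := Submodule.mkQ_surjective _ x
    obtain ⟨x, hx⟩ := x
    have hx' := hx
    rw [← h2, Submodule.mem_sup] at hx'
    obtain ⟨a, ha, c, hc, rfl⟩ := hx'
    refine ⟨⟨c, hc⟩, ?_⟩
    simp only [LinearMap.comp_apply, Submodule.mkQ_apply]
    rw [Submodule.Quotient.eq]
    simp only [Submodule.mem_comap, Submodule.subtype_apply, AddSubgroupClass.coe_sub,
      Submodule.coe_inclusion]
    have : c - (a + c) = -a := by abel
    rw [this]
    exact N.neg_mem ha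

theorem main (hmono : Monotone Mf)
    (hlim : ∀ s : S, Order.IsSuccPrelimit s → Mf s = ⨆ t : {t : S // t < s}, Mf t.1)
    (htop : (⨆ s, Mf s) = ⊤)
    (hC : ∀ s t : S, s ⋖ t → ∃ C : Submodule R M, Mf s ⊓ C = ⊥ ∧ Mf s ⊔ C = Mf t) :
    Nonempty (M ≃ₗ[R] DirectSum {p : S × S // p.1 ⋖ p.2}
        fun p => ↥(Mf p.1.2) ⧸ Submodule.comap (Mf p.1.2).subtype (Mf p.1.1)) := by
  classical
  choose C hC1 hC2 using fun p : Idx S => hC p.1.1 p.1.2 p.2
  have hint := isInternal_C Mf hmono hlim htop C hC1 hC2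
  let e1 : (DirectSum (Idx S) fun p => C p) ≃ₗ[R] M :=
    LinearEquiv.ofBijective (DirectSum.coeLinearMap C) hint
  let e2 : (DirectSum (Idx S) fun p => C p) ≃ₗ[R] DirectSum (Idx S)
      fun p => ↥(Mf p.1.2) ⧸ Submodule.comap (Mf p.1.2).subtype (Mf p.1.1) :=
    DFinsupp.mapRange.linearEquiv fun p => compEquiv (Mf p.1.1) (Mf p.1.2) (C p) (hC1 p) (hC2 p)
  exact ⟨e1.symm.trans e2⟩

end Groth.Agent.Lib.Helper5.KapA
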