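import Mathlib
import Groth.Agent.Lib.Helper5.Kap.A
import Groth.Prelude.Def_Found

set_option autoImplicit false
universe u
open scoped BigOperators
open scoped Classical

namespace Groth.Agent.Lib.Helper5.KapB
open Groth.Agent.Lib.Helper5.KapA

variable {R : Type u} [CommRing R] {M : Type u} [AddCommGroup M] [Module R M]

theorem cg_of_surjective {A B : Type u} [AddCommGroup A] [Module R A] [AddCommGroup B] [Module R B]
    (f : A →ₗ[R] B) (hf : Function.Surjective f) (h : CAlg.IsCountablyGenerated R A) :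
    CAlg.IsCountablyGenerated R B := by
  obtain ⟨s, hs, hspan⟩ := h
  refine ⟨f '' s, hs.image f, ?_⟩
  rw [← Submodule.map_span, hspan, Submodule.map_top, LinearMap.range_eq_top]
  exact hf

theorem backward (S : Type u) [LinearOrder S] [WellFoundedLT S] (Mf : S → Submodule R M)
    (hmono : Monotone Mf)
    (hlim : ∀ s : S, Order.IsSuccPrelimit s → Mf s = ⨆ t : {t : S // t < s}, Mf t.1)
    (htop : (⨆ s, Mf s) = ⊤)
    (hC : ∀ s t : S, s ⋖ t → ∃ C : Submodule R M, Mf s ⊓ C = ⊥ ∧ Mf s ⊔ C = Mf t ∧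
          CAlg.IsCountablyGenerated R (↥(Mf t) ⧸ Submodule.comap (Mf t).subtype (Mf s))) :
    ∃ (ι : Type u) (N : ι → Submodule R M), DirectSum.IsInternal N ∧
      ∀ i, CAlg.IsCountablyGenerated R (N i) := by
  choose C hC1 hC2 hC3 using fun p : Idx S => hC p.1.1 p.1.2 p.2
  refine ⟨Idx S, C, by convert isInternal_C Mf hmono hlim htop C hC1 hC2, fun p => ?_⟩
  exact cg_of_surjective (compEquiv (Mf p.1.1) (Mf p.1.2) (C p) (hC1 p) (hC2 p)).symm.toLinearMap
    (LinearEquiv.surjective _) (hC3 p)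

section fwd
variable {ι : Type u} [LinearOrder ι] [WellFoundedLT ι] (N : ι → Submodule R M)

/-- the filtration attached to a well-ordered direct sum decomposition -/
def filt (s : WithTop ι) : Submodule R M := ⨆ (i : ι) (_ : (i : WithTop ι) < s), N i

theorem filt_mono : Monotone (filt N) := by
  intro s t hst
  exact iSup₂_le fun i hi => le_iSup₂_of_le i (lt_of_lt_of_le hi hst) le_rfl

theorem filt_lim (s : WithTop ι) (hs : Order.IsSuccPrelimit s) :
    filt N s = ⨆ t : {t : WithTop ι // t < s}, filt N t.1 := by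
  apply le_antisymm
  · refine iSup₂_le fun i hi => ?_
    have h1 : ¬ ((i : WithTop ι) ⋖ s) := hs _
    rw [not_covBy_iff hi] at h1
    obtain ⟨t, hit, hts⟩ := h1
    refine le_trans ?_ (le_iSup (fun t : {t : WithTop ι // t < s} => filt N t.1) ⟨t, hts⟩)
    exact le_iSup₂_of_le i hit le_rfl
  · exact iSup_le fun t => filt_mono N t.2.le

theorem filt_top : filt N ⊤ = ⨆ i, N i := by
  unfold filt
  congr 1
  funext i
  simp [WithTop.coe_lt_top]

theorem filt_succ (i : ι) (t : WithTop ι) (h : (i : WithTop ι) ⋖ t) :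
    filt N i ⊔ N i = filt N t := by
  apply le_antisymm
  · refine sup_le (filt_mono N h.le) ?_
    exact le_iSup₂_of_le i h.lt le_rfl
  · refine iSup₂_le fun j hj => ?_
    have hle : (j : WithTop ι) ≤ i := h.le_of_lt hj
    rcases hle.lt_or_eq with h1 | h1
    · exact le_sup_of_le_left (le_iSup₂_of_le j h1 le_rfl)
    · have : j = i := WithTop.coe_injective h1
      rw [this]
      exact le_sup_right

theorem filt_disj (hN : iSupIndep N) (i : ι) : filt N i ⊓ N i = ⊥ := by
  have h1 : filt N i ≤ ⨆ (j : ι) (_ : j ≠ i), N j := by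
    refine iSup₂_le fun j hj => ?_
    have : j ≠ i := fun h => by rw [h] at hj; exact lt_irrefl _ hj
    exact le_iSup₂_of_le j this le_rfl
  have h2 := hN i
  rw [disjoint_iff] at h2
  rw [inf_comm]
  exact le_bot_iff.mp (h2 ▸ inf_le_inf_left _ h1)

end fwd

theorem forward (ι : Type u) (N : ι → Submodule R M) (hN : DirectSum.IsInternal N)
    (hcg : ∀ i, CAlg.IsCountablyGenerated R (N i)) :
    ∃ (S : Type u) (_ : LinearOrder S) (_ : WellFoundedLT S) (Mf : S → Submodule R M), Monotone Mf ∧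
        (∀ s : S, Order.IsSuccPrelimit s → Mf s = ⨆ t : {t : S // t < s}, Mf t.1) ∧
        (⨆ s, Mf s) = ⊤ ∧
        (∀ s t : S, s ⋖ t → ∃ C : Submodule R M, Mf s ⊓ C = ⊥ ∧ Mf s ⊔ C = Mf t ∧
          CAlg.IsCountablyGenerated R (↥(Mf t) ⧸ Submodule.comap (Mf t).subtype (Mf s))) := by
  replace hN := (DirectSum.isInternal_submodule_iff_iSupIndep_and_iSup_eq_top _).mp hN
  letI : LinearOrder ι := linearOrderOfSTO (WellOrderingRel (α := ι))
  haveI : WellFoundedLT ι := ⟨(WellOrderingRel.isWellOrder (α := ι)).wf⟩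
  refine ⟨WithTop ι, inferInstance, inferInstance, filt N, filt_mono N, filt_lim N, ?_, ?_⟩
  · rw [eq_top_iff, ← hN.2, ← filt_top N]
    exact le_iSup (filt N) ⊤
  · intro s t hst
    have hs : s ≠ ⊤ := ne_top_of_lt hst.lt
    obtain ⟨i, rfl⟩ := WithTop.ne_top_iff_exists.mp hs
    refine ⟨N i, filt_disj N hN.1 i, filt_succ N i t hst, ?_⟩
    exact cg_of_surjective
      (compEquiv (filt N i) (filt N t) (N i) (filt_disj N hN.1 i) (filt_succ N i t hst)).toLinearMap
      (LinearEquiv.surjective _) (hcg i)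

theorem main :
    (∃ (ι : Type u) (N : ι → Submodule R M), DirectSum.IsInternal N ∧ ∀ i, CAlg.IsCountablyGenerated R (N i)) ↔
      ∃ (S : Type u) (_ : LinearOrder S) (_ : WellFoundedLT S) (Mf : S → Submodule R M), Monotone Mf ∧
        (∀ s : S, Order.IsSuccPrelimit s → Mf s = ⨆ t : {t : S // t < s}, Mf t.1) ∧
        (⨆ s, Mf s) = ⊤ ∧
        (∀ s t : S, s ⋖ t → ∃ C : Submodule R M, Mf s ⊓ C = ⊥ ∧ Mf s ⊔ C = Mf t ∧
          CAlg.IsCountablyGenerated R (↥(Mf t) ⧸ Submodule.comap (Mf t).subtype (Mf s))) := by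
  constructor
  · rintro ⟨ι, N, hN, hcg⟩
    exact forward ι N hN hcg
  · rintro ⟨S, i1, i2, Mf, hmono, hlim, htop, hC⟩
    exact backward S Mf hmono hlim htop hC

end Groth.Agent.Lib.Helper5.KapB
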