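import Mathlib

set_option autoImplicit false
universe u
open scoped BigOperators TensorProduct

namespace Groth.Agent.Lib.Helper5.KapC

variable (R S : Type u) [CommRing R] [CommRing S] [Algebra R S]
    (M : Type u) [AddCommGroup M] [Module R M]

/-- every tensor lies in the `S`-span of `1 ⊗ g` for a finite set `g`. -/
theorem exists_finite_gen (y : S ⊗[R] M) :
    ∃ g : Set M, g.Finite ∧ y ∈ Submodule.span S ((TensorProduct.mk R S M 1) '' g) := by
  induction y using TensorProduct.induction_on with
  | zero => exact ⟨∅, Set.finite_empty, Submodule.zero_mem _⟩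
  | tmul s m =>
    refine ⟨{m}, Set.finite_singleton m, ?_⟩
    have : s ⊗ₜ[R] m = s • (TensorProduct.mk R S M 1 m) := by
      simp [TensorProduct.smul_tmul']
    rw [this]
    exact Submodule.smul_mem _ _ (Submodule.subset_span ⟨m, rfl, rfl⟩)
  | add x y hx hy =>
    obtain ⟨g1, hg1, h1⟩ := hx
    obtain ⟨g2, hg2, h2⟩ := hy
    refine ⟨g1 ∪ g2, hg1.union hg2, Submodule.add_mem _ ?_ ?_⟩
    · exact Submodule.span_mono (Set.image_mono Set.subset_union_left) h1
    · exact Submodule.span_mono (Set.image_mono Set.subset_union_right) h2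

theorem span_image_span (U : Set M) :
    Submodule.span S ((TensorProduct.mk R S M 1) '' (Submodule.span R U : Set M)) =
      Submodule.span S ((TensorProduct.mk R S M 1) '' U) := by
  apply le_antisymm
  · rw [Submodule.span_le]
    rintro _ ⟨m, hm, rfl⟩
    have h1 : Submodule.map (TensorProduct.mk R S M 1) (Submodule.span R U) ≤
        (Submodule.span S ((TensorProduct.mk R S M 1) '' U)).restrictScalars R := by
      rw [Submodule.map_span]
      exact Submodule.span_le_restrictScalars R S _
    exact h1 (Submodule.mem_map_of_mem hm)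
  · exact Submodule.span_mono (Set.image_mono Submodule.subset_span)

theorem main {I : Type u} [DecidableEq I] (Q : I → Submodule S (S ⊗[R] M))
    (hQ : DirectSum.IsInternal Q) (hQc : ∀ i, ∃ t : Set (S ⊗[R] M), t.Countable ∧ Submodule.span S t = Q i)
    (N : Submodule R M) (hN : ∃ s : Set M, s.Countable ∧ Submodule.span R s = N) :
    ∃ (N' : Submodule R M) (I' : Set I), N ≤ N' ∧ (∃ s : Set M, s.Countable ∧ Submodule.span R s = N') ∧
      Submodule.span S ((TensorProduct.mk R S M 1) '' (N' : Set M)) = ⨆ i ∈ I', Q i := by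
  classical
  have htop : (⨆ i, Q i) = ⊤ := hQ.submodule_iSup_eq_top
  -- finite support function
  have hF : ∀ m : M, ∃ F : Finset I, (TensorProduct.mk R S M 1 m) ∈ ⨆ i ∈ F, Q i := by
    intro m
    have : (TensorProduct.mk R S M 1 m) ∈ ⨆ i, Q i := by rw [htop]; trivial
    exact (Submodule.mem_iSup_iff_exists_finset).mp this
  choose F hF using hF
  -- countable generators for each Q i
  have hG : ∀ i : I, ∃ G : Set M, G.Countable ∧
      Q i ≤ Submodule.span S ((TensorProduct.mk R S M 1) '' G) := by
    intro i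
    obtain ⟨t, ht, hspan⟩ := hQc i
    choose g hgfin hg using exists_finite_gen R S M
    refine ⟨⋃ y ∈ t, g y, ht.biUnion fun y _ => (hgfin y).countable, ?_⟩
    rw [← hspan, Submodule.span_le]
    intro y hy
    exact Submodule.span_mono (Set.image_mono (Set.subset_biUnion_of_mem hy)) (hg y)
  choose G hGc hG using hG
  obtain ⟨s, hs, hspan⟩ := hN
  let fI : Set M → Set I := fun s => ⋃ m ∈ s, (F m : Set I)
  let gM : Set I → Set M := fun J => ⋃ i ∈ J, G i
  let sn : ℕ → Set M := fun n => Nat.rec s (fun _ sn => sn ∪ gM (fI sn)) n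
  have sn_succ : ∀ n, sn (n + 1) = sn n ∪ gM (fI (sn n)) := fun n => rfl
  have sn_count : ∀ n, (sn n).Countable := by
    intro n
    induction n with
    | zero => exact hs
    | succ n ih =>
      rw [sn_succ]
      refine ih.union ?_
      refine Set.Countable.biUnion ?_ fun i _ => hGc i
      exact ih.biUnion fun m _ => (F m).countable_toSet
  let U : Set M := ⋃ n, sn n
  refine ⟨Submodule.span R U, ⋃ n, fI (sn n), ?_, ⟨U, Set.countable_iUnion sn_count, rfl⟩, ?_⟩
  · rw [← hspan]
    exact Submodule.span_mono (Set.subset_iUnion sn 0)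
  · rw [span_image_span]
    apply le_antisymm
    · rw [Submodule.span_le]
      rintro _ ⟨m, hm, rfl⟩
      obtain ⟨n, hn⟩ := Set.mem_iUnion.mp hm
      have h1 := hF m
      refine (iSup₂_le fun i hi => ?_ : (⨆ i ∈ F m, Q i) ≤ _) h1
      refine le_iSup₂_of_le i ?_ le_rfl
      exact Set.mem_iUnion.mpr ⟨n, Set.mem_biUnion hn hi⟩
    · refine iSup₂_le fun i hi => ?_
      obtain ⟨n, hn⟩ := Set.mem_iUnion.mp hi
      refine (hG i).trans (Submodule.span_mono (Set.image_mono ?_))
      refine Set.Subset.trans ?_ (Set.subset_iUnion sn (n + 1))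
      rw [sn_succ]
      exact Set.Subset.trans (Set.subset_biUnion_of_mem (u := G) hn) Set.subset_union_right

end Groth.Agent.Lib.Helper5.KapC
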